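import Mathlib
import Groth.Agent.H87.SmoothLift

/-!
# Lifting standard étale algebras along a ring map with fractions

Let `B → T` be a ring map such that every element of `T` is a fraction `φ b / φ a` with `φ a` a unit
(`HasFracs`; e.g. `B → B ⊗_A κ(𝔭)`).  Then every standard étale `T`-algebra is the base change of an
étale `B`-algebra.
-/

set_option autoImplicit false
set_option linter.style.haveILetI false
universe u

open TensorProduct Polynomial

namespace Groth.Agent.H68.FibEt

/-- Every element of `T` is a fraction of elements coming from `B`. -/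
def HasFracs (B T : Type*) [CommRing B] [CommRing T] [Algebra B T] : Prop :=
  ∀ y : T, ∃ a b : B, IsUnit (algebraMap B T a) ∧ y * algebraMap B T a = algebraMap B T b

theorem HasFracs.finset {B T : Type*} [CommRing B] [CommRing T] [Algebra B T] (h : HasFracs B T)
    (s : Finset T) :
    ∃ a : B, IsUnit (algebraMap B T a) ∧ ∀ y ∈ s, ∃ b : B, y * algebraMap B T a = algebraMap B T b := by
  classical
  induction s using Finset.induction_on with
  | empty => exact ⟨1, by simp, by simp⟩
  | insert y s _ ih =>
    obtain ⟨a₁, ha₁, h₁⟩ := ih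
    obtain ⟨a₂, b₂, ha₂, h₂⟩ := h y
    refine ⟨a₂ * a₁, by rw [map_mul]; exact ha₂.mul ha₁, ?_⟩
    intro z hz
    rcases Finset.mem_insert.mp hz with rfl | hz
    · exact ⟨b₂ * a₁, by rw [map_mul, map_mul, ← mul_assoc, h₂]⟩
    · obtain ⟨b, hb⟩ := h₁ z hz
      exact ⟨a₂ * b, by rw [map_mul, map_mul, mul_comm (algebraMap B T a₂), ← mul_assoc, hb, mul_comm]⟩

section lift

variable {R T : Type u} [CommRing R] [CommRing T] [Algebra R T]

/-- If the polynomials of a standard étale pair over `T` lift to `R` (with `F` monic), the standard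
étale algebra is the base change of a standard étale `R`-algebra. -/
theorem exists_pair_of_lifts (P : StandardEtalePair T) (F G : R[X]) (hF : F.Monic)
    (hFmap : F.map (algebraMap R T) = P.f) (hGmap : G.map (algebraMap R T) = P.g) :
    ∃ Q : StandardEtalePair R, Nonempty (T ⊗[R] Q.Ring ≃ₐ[T] P.Ring) := by
  let Q : StandardEtalePair R := ⟨F, hF, G * derivative F, ⟨G, 0, 1, by ring⟩⟩
  refine ⟨Q, ⟨?_⟩⟩
  let PrC : StandardEtalePresentation R Q.Ring :=
    ⟨Q, Q.X, Q.hasMap_X, by rw [Q.lift_X_left]; exact Function.bijective_id⟩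
  let PrB : StandardEtalePresentation T (T ⊗[R] Q.Ring) := PrC.baseChange
  let E₁ : T ⊗[R] Q.Ring ≃ₐ[T] (Q.map (algebraMap R T)).Ring := PrB.equivRing
  have hf : (Q.map (algebraMap R T)).f = P.f := hFmap
  have hg : (Q.map (algebraMap R T)).g = P.g * derivative P.f := by
    show (G * derivative F).map (algebraMap R T) = P.g * derivative P.f
    rw [Polynomial.map_mul, ← Polynomial.derivative_map, hFmap, hGmap]
  exact E₁.trans (Groth.Agent.H87.SmoothLift.equivMulDerivative P (Q.map (algebraMap R T)) hf hg)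

end lift

/-- **Lifting standard étale algebras along a map with fractions.** -/
theorem exists_etale_lift {B T : Type u} [CommRing B] [CommRing T] [Algebra B T]
    (h : HasFracs B T) (P : StandardEtalePair T) :
    ∃ (C : Type u) (_ : CommRing C) (_ : Algebra B C), Algebra.Etale B C ∧
      Nonempty (T ⊗[B] C ≃ₐ[T] P.Ring) := by
  classical
  obtain ⟨a, ha, hs⟩ := h.finset (P.f.coeffs ∪ P.g.coeffs)
  let Ba := Localization.Away a
  let ψ : Ba →+* T := IsLocalization.Away.lift a ha
  have hψ : ψ.comp (algebraMap B Ba) = algebraMap B T := IsLocalization.Away.lift_comp a ha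
  letI : Algebra Ba T := ψ.toAlgebra
  haveI : IsScalarTower B Ba T := .of_algebraMap_eq' hψ.symm
  have hrange : ∀ y ∈ P.f.coeffs ∪ P.g.coeffs, y ∈ Set.range ψ := by
    intro y hy
    obtain ⟨b, hb⟩ := hs y hy
    refine ⟨algebraMap B Ba b * IsLocalization.Away.invSelf a, ?_⟩
    have h1 : ψ (IsLocalization.Away.invSelf a) * algebraMap B T a = 1 := by
      rw [← hψ, RingHom.comp_apply, ← map_mul, mul_comm, IsLocalization.Away.mul_invSelf, map_one]
    rw [map_mul, ← RingHom.comp_apply, hψ, ← hb, mul_assoc, mul_comm (algebraMap B T a), h1,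
      mul_one]
  have hcoeff : ∀ (p : T[X]), (p.coeffs ⊆ P.f.coeffs ∪ P.g.coeffs) →
      p ∈ Polynomial.lifts ψ := by
    intro p hp
    rw [Polynomial.lifts_iff_coeff_lifts]
    intro n
    by_cases hn : p.coeff n = 0
    · exact ⟨0, by rw [map_zero, hn]⟩
    · exact hrange _ (hp (Polynomial.coeff_mem_coeffs hn))
  obtain ⟨F, hFmap, -, hFmonic⟩ := Polynomial.lifts_and_natDegree_eq_and_monic
    (hcoeff P.f Finset.subset_union_left) P.monic_f
  obtain ⟨G, hGmap⟩ := (Polynomial.mem_lifts _).mp (hcoeff P.g Finset.subset_union_right)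
  obtain ⟨Q, ⟨E⟩⟩ := exists_pair_of_lifts (R := Ba) P F G hFmonic hFmap hGmap
  letI : Algebra B Q.Ring := ((algebraMap Ba Q.Ring).comp (algebraMap B Ba)).toAlgebra
  haveI : IsScalarTower B Ba Q.Ring := .of_algebraMap_eq' rfl
  haveI : Algebra.Etale B Ba := Algebra.Etale.of_isLocalizationAway a
  haveI : Algebra.Etale B Q.Ring := Algebra.Etale.comp B Ba Q.Ring
  refine ⟨Q.Ring, inferInstance, inferInstance, inferInstance, ⟨?_⟩⟩
  have := IsLocalization.tensorProduct_compatibleSMul (Submonoid.powers a) Ba T Q.Ring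
  exact (Algebra.TensorProduct.equivOfCompatibleSMul B Ba T T Q.Ring).symm.trans E

end Groth.Agent.H68.FibEt
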