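import Mathlib
import Groth.Prelude.Def_MoreMor

/-!
# Assembly: the fibre of `Spec C → X` over `s` when `T ⊗_B C ≃ D`
-/

set_option autoImplicit false
set_option linter.style.haveILetI false
universe u

open TensorProduct CategoryTheory CategoryTheory.Limits AlgebraicGeometry

namespace Groth.Agent.H68.FibEt

variable {X S V : Scheme.{u}} (f : X ⟶ S) (s : S)

theorem exists_openImmersion_of_tensor_equiv {U₀ : X.Opens} (hU₀ : IsAffineOpen U₀)
    (hFU : IsAffineOpen ((f.fiberι s) ⁻¹ᵁ U₀))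
    (C : Type u) [CommRing C] [Algebra Γ(X, U₀) C]
    (D : Type u) [CommRing D] [Algebra Γ(f.fiber s, (f.fiberι s) ⁻¹ᵁ U₀) D]
    (E' : letI : Algebra Γ(X, U₀) Γ(f.fiber s, (f.fiberι s) ⁻¹ᵁ U₀) :=
        ((f.fiberι s).appLE U₀ ((f.fiberι s) ⁻¹ᵁ U₀) le_rfl).hom.toAlgebra
      Γ(f.fiber s, (f.fiberι s) ⁻¹ᵁ U₀) ⊗[Γ(X, U₀)] C ≃ₐ[Γ(f.fiber s, (f.fiberι s) ⁻¹ᵁ U₀)] D)
    (g : V ⟶ f.fiber s) (k : Spec (.of D) ⟶ V) [IsOpenImmersion k]
    (hk : k ≫ g = Spec.map (CommRingCat.ofHom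
      (algebraMap Γ(f.fiber s, (f.fiberι s) ⁻¹ᵁ U₀) D)) ≫ hFU.fromSpec) :
    ∃ m : ((Spec.map (CommRingCat.ofHom (algebraMap Γ(X, U₀) C)) ≫ hU₀.fromSpec) ≫ f).fiber s ⟶ V,
      IsOpenImmersion m ∧
      m ≫ g = MoreMor.fiberMap (Spec.map (CommRingCat.ofHom (algebraMap Γ(X, U₀) C)) ≫
        hU₀.fromSpec) f s ∧
      ∀ d : Spec (.of D), ∃ u', m u' = k d := by
  letI : Algebra Γ(X, U₀) Γ(f.fiber s, (f.fiberι s) ⁻¹ᵁ U₀) :=
    ((f.fiberι s).appLE U₀ ((f.fiberι s) ⁻¹ᵁ U₀) le_rfl).hom.toAlgebra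
  -- abbreviations
  let B := Γ(X, U₀)
  let T := Γ(f.fiber s, (f.fiberι s) ⁻¹ᵁ U₀)
  let ι := f.fiberι s
  let σ := S.fromSpecResidueField s
  let p : Spec (.of C) ⟶ X := Spec.map (CommRingCat.ofHom (algebraMap B C)) ≫ hU₀.fromSpec
  let inclT : Spec (.of (T ⊗[B] C)) ⟶ Spec (.of T) :=
    Spec.map (CommRingCat.ofHom (Algebra.TensorProduct.includeLeftRingHom (R := B) (A := T) (B := C)))
  let inclC : Spec (.of (T ⊗[B] C)) ⟶ Spec (.of C) :=
    Spec.map (CommRingCat.ofHom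
      (Algebra.TensorProduct.includeRight (R := B) (A := T) (B := C)).toRingHom)
  -- square I
  have sqI : IsPullback inclT inclC (Spec.map (CommRingCat.ofHom (algebraMap B T)))
      (Spec.map (CommRingCat.ofHom (algebraMap B C))) :=
    isPullback_SpecMap_of_isPushout _ _ _ _ (CommRingCat.isPushout_tensorProduct B T C)
  -- square II
  have hII : hFU.fromSpec ≫ ι = Spec.map (CommRingCat.ofHom (algebraMap B T)) ≫ hU₀.fromSpec :=
    (IsAffineOpen.SpecMap_appLE_fromSpec ι hU₀ hFU le_rfl).symm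
  have sqII : IsPullback (Spec.map (CommRingCat.ofHom (algebraMap B T))) hFU.fromSpec
      hU₀.fromSpec ι :=
    IsOpenImmersion.isPullback _ _ _ _ hII (by
      rw [IsAffineOpen.opensRange_fromSpec, IsAffineOpen.opensRange_fromSpec])
  have sq12 : IsPullback (inclT ≫ hFU.fromSpec) inclC ι p := sqI.paste_horiz sqII.flip
  -- square III
  have sqIII : IsPullback (pullback.snd f σ) (pullback.fst f σ) σ f :=
    (IsPullback.of_hasPullback f σ).flip
  have big : IsPullback inclC ((inclT ≫ hFU.fromSpec) ≫ pullback.snd f σ) (p ≫ f) σ :=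
    (sq12.paste_horiz sqIII).flip
  let e : Spec (.of (T ⊗[B] C)) ≅ pullback (p ≫ f) σ := big.isoPullback
  -- the iso `Spec (T ⊗ C) ≅ Spec D`
  let εD : CommRingCat.of D ≅ CommRingCat.of (T ⊗[B] C) := E'.symm.toRingEquiv.toCommRingCatIso
  have hεD : Spec.map εD.hom ≫ Spec.map (CommRingCat.ofHom (algebraMap T D)) = inclT := by
    rw [← Spec.map_comp]
    congr 1
    ext t
    exact E'.symm.commutes t
  let m : pullback (p ≫ f) σ ⟶ V := e.inv ≫ Spec.map εD.hom ≫ k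
  have hm1 : (m ≫ g) ≫ pullback.fst f σ = pullback.fst (p ≫ f) σ ≫ p := by
    have h1 : e.inv ≫ inclC = pullback.fst (p ≫ f) σ := big.isoPullback_inv_fst
    calc (m ≫ g) ≫ pullback.fst f σ
        = e.inv ≫ (Spec.map εD.hom ≫ Spec.map (CommRingCat.ofHom (algebraMap T D))) ≫
            hFU.fromSpec ≫ ι := by
          simp only [m, Category.assoc, hk]; rfl
      _ = e.inv ≫ (inclT ≫ hFU.fromSpec) ≫ ι := by rw [hεD]; simp only [Category.assoc]
      _ = e.inv ≫ inclC ≫ p := by rw [sq12.w]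
      _ = pullback.fst (p ≫ f) σ ≫ p := by rw [← Category.assoc, h1]
  have hm2 : (m ≫ g) ≫ pullback.snd f σ = pullback.snd (p ≫ f) σ := by
    have h2 : e.inv ≫ ((inclT ≫ hFU.fromSpec) ≫ pullback.snd f σ) = pullback.snd (p ≫ f) σ :=
      big.isoPullback_inv_snd
    calc (m ≫ g) ≫ pullback.snd f σ
        = e.inv ≫ ((Spec.map εD.hom ≫ Spec.map (CommRingCat.ofHom (algebraMap T D))) ≫
            hFU.fromSpec) ≫ pullback.snd f σ := by
          simp only [m, Category.assoc, hk]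
      _ = pullback.snd (p ≫ f) σ := by rw [hεD, h2]
  have hpts : ∀ d : Spec (.of D), ∃ u' : ↥(pullback (p ≫ f) σ), m u' = k d := by
    intro d
    refine ⟨e.hom ((inv (Spec.map εD.hom)) d), ?_⟩
    have h1 : e.hom ≫ m = Spec.map εD.hom ≫ k := by simp [m]
    have h2 : inv (Spec.map εD.hom) ≫ e.hom ≫ m = k := by rw [h1, IsIso.inv_hom_id_assoc]
    calc m (e.hom ((inv (Spec.map εD.hom)) d))
        = (inv (Spec.map εD.hom) ≫ e.hom ≫ m) d := by simp only [Scheme.Hom.comp_apply]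
      _ = k d := by rw [h2]
  have hfm : m ≫ g = pullback.lift (pullback.fst (p ≫ f) σ ≫ p) (pullback.snd (p ≫ f) σ)
      ((Category.assoc _ p f).trans pullback.condition) := by
    apply pullback.hom_ext
    · rw [pullback.lift_fst]; exact hm1
    · rw [pullback.lift_snd]; exact hm2
  have hoi : IsOpenImmersion m := by dsimp only [m]; infer_instance
  exact ⟨m, hoi, hfm, hpts⟩

end Groth.Agent.H68.FibEt
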