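import Groth.Agent.H68.FibEt.Main

/-!
# Fibre maps of étale neighbourhoods, and irreducible components under open embeddings
-/

set_option autoImplicit false
set_option linter.style.haveILetI false
universe u

open CategoryTheory CategoryTheory.Limits AlgebraicGeometry Topology

namespace Groth.Agent.H68.FibEt

section top

variable {W V : Type*} [TopologicalSpace W] [TopologicalSpace V]

theorem encard_components_le_of_isOpenEmbedding (m : W → V) (hm : IsOpenEmbedding m) (w : W) :
    {Z : Set V | Z ∈ irreducibleComponents V ∧ m w ∈ Z}.encard ≤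
      {Z' : Set W | Z' ∈ irreducibleComponents W ∧ w ∈ Z'}.encard := by
  refine Set.encard_le_encard_of_injOn (f := fun Z => m ⁻¹' Z) ?_ ?_
  · rintro Z ⟨hZ, hw⟩
    exact ⟨preimage_mem_irreducibleComponents hZ hm ⟨m w, hw, w, rfl⟩, hw⟩
  · rintro Z₁ ⟨hZ₁, hw₁⟩ Z₂ ⟨hZ₂, hw₂⟩ h
    have e₁ := closure_image_preimage_of_isPreirreducible m hm.isOpenMap Z₁ ⟨w, hw₁⟩ hZ₁.1.2
      (isClosed_of_mem_irreducibleComponents Z₁ hZ₁)
    have e₂ := closure_image_preimage_of_isPreirreducible m hm.isOpenMap Z₂ ⟨w, hw₂⟩ hZ₂.1.2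
      (isClosed_of_mem_irreducibleComponents Z₂ hZ₂)
    have h' : m ⁻¹' Z₁ = m ⁻¹' Z₂ := h
    rw [← e₁, ← e₂, h']

end top

variable {U X S : Scheme.{u}} (p : U ⟶ X) (f : X ⟶ S) (s : S)

theorem isPullback_fiberMap :
    IsPullback (MoreMor.fiberMap p f s) ((p ≫ f).fiberι s) (f.fiberι s) p := by
  have hr : IsPullback (f.fiberToSpecResidueField s) (f.fiberι s) (S.fromSpecResidueField s) f :=
    (IsPullback.of_hasPullback f (S.fromSpecResidueField s)).flip
  have hl : MoreMor.fiberMap p f s ≫ f.fiberToSpecResidueField s =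
      (p ≫ f).fiberToSpecResidueField s := pullback.lift_snd _ _ _
  have hb : IsPullback (MoreMor.fiberMap p f s ≫ f.fiberToSpecResidueField s) ((p ≫ f).fiberι s)
      (S.fromSpecResidueField s) (p ≫ f) := by
    rw [hl]
    exact (IsPullback.of_hasPullback (p ≫ f) (S.fromSpecResidueField s)).flip
  exact IsPullback.of_right hb (pullback.lift_fst _ _ _) hr

instance etale_fiberMap [Etale p] : Etale (MoreMor.fiberMap p f s) :=
  MorphismProperty.of_isPullback (isPullback_fiberMap p f s).flip ‹_›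

theorem fiberMap_eq_asFiber (x : X) (u' : ↑((p ≫ f).fiber (f x)))
    (hu' : p ((p ≫ f).fiberι (f x) u') = x) :
    MoreMor.fiberMap p f (f x) u' = f.asFiber x := by
  apply (f.fiberι (f x)).isEmbedding.injective
  rw [f.fiberι_asFiber, ← Scheme.Hom.comp_apply, (isPullback_fiberMap p f (f x)).w,
    Scheme.Hom.comp_apply, hu']

end Groth.Agent.H68.FibEt
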