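import Groth.Agent.H68.FibEt.Branch

/-!
# Residue field maps in commutative squares of schemes
-/

set_option autoImplicit false
set_option linter.style.haveILetI false
universe u

open CategoryTheory CategoryTheory.Limits AlgebraicGeometry Topology

namespace Groth.Agent.H68.FibEt

section general

variable {A B C D : Scheme.{u}}

/-- If the stalk map is surjective, so is the residue field map. -/
theorem residueFieldMap_surjective_of_stalkMap (j : A ⟶ B) (ξ : A)
    (hsurj : Function.Surjective (j.stalkMap ξ).hom) :
    Function.Surjective (j.residueFieldMap ξ).hom := by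
  intro b
  obtain ⟨b', rfl⟩ := IsLocalRing.residue_surjective (R := A.presheaf.stalk ξ) b
  obtain ⟨a, rfl⟩ := hsurj b'
  refine ⟨(B.residue (j ξ)).hom a, ?_⟩
  have := congrArg (fun φ => φ.hom a) (Scheme.residue_residueFieldMap j ξ)
  exact this

theorem residueFieldMap_injective (j : A ⟶ B) (ξ : A) :
    Function.Injective (j.residueFieldMap ξ).hom :=
  (j.residueFieldMap ξ).hom.injective

theorem residueFieldMap_comp_surjective (a : A ⟶ B) (b : B ⟶ D) (z : A)
    (ha : Function.Surjective (a.residueFieldMap z).hom)
    (hb : Function.Surjective (b.residueFieldMap (a z)).hom) :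
    Function.Surjective ((a ≫ b).residueFieldMap z).hom := by
  rw [Scheme.residueFieldMap_comp]
  exact ha.comp hb

theorem residueFieldMap_surjective_congr {a a' : A ⟶ D} (e : a = a') (z : A)
    (ha : Function.Surjective (a.residueFieldMap z).hom) :
    Function.Surjective (a'.residueFieldMap z).hom := by
  subst e
  exact ha

/-- In a commutative square `a ≫ b = c ≫ d`, if `a` and `b` induce surjections of residue fields
(at `z` and `a z`), then so does `c` at `z`. -/
theorem residueFieldMap_surjective_fst (a : A ⟶ B) (b : B ⟶ D) (c : A ⟶ C) (d : C ⟶ D)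
    (hsq : a ≫ b = c ≫ d) (z : A)
    (ha : Function.Surjective (a.residueFieldMap z).hom)
    (hb : Function.Surjective (b.residueFieldMap (a z)).hom) :
    Function.Surjective (c.residueFieldMap z).hom := by
  have h1 := residueFieldMap_surjective_congr hsq z (residueFieldMap_comp_surjective a b z ha hb)
  rw [Scheme.residueFieldMap_comp] at h1
  exact Function.Surjective.of_comp h1

/-- In a commutative square `a ≫ b = c ≫ d`, if `a` and `b` induce surjections of residue fields
(at `z` and `a z`), then so does `d` at `c z`. -/
theorem residueFieldMap_surjective_snd (a : A ⟶ B) (b : B ⟶ D) (c : A ⟶ C) (d : C ⟶ D)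
    (hsq : a ≫ b = c ≫ d) (z : A)
    (ha : Function.Surjective (a.residueFieldMap z).hom)
    (hb : Function.Surjective (b.residueFieldMap (a z)).hom) :
    Function.Surjective (d.residueFieldMap (c z)).hom := by
  have h1 := residueFieldMap_surjective_congr hsq z (residueFieldMap_comp_surjective a b z ha hb)
  rw [Scheme.residueFieldMap_comp] at h1
  intro t
  obtain ⟨s, hs⟩ := h1 ((c.residueFieldMap z).hom t)
  exact ⟨s, residueFieldMap_injective c z hs⟩

theorem residueFieldMap_surjective_of_isOpenImmersion (m : A ⟶ B) [IsOpenImmersion m] (z : A) :
    Function.Surjective (m.residueFieldMap z).hom :=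
  ((ConcreteCategory.isIso_iff_bijective (m.residueFieldMap z)).mp inferInstance).2

end general

theorem residueFieldMap_fiberι_surjective {X S : Scheme.{u}} (g : X ⟶ S) (s : S) (y : g.fiber s) :
    Function.Surjective ((g.fiberι s).residueFieldMap y).hom :=
  residueFieldMap_surjective_of_stalkMap _ y ((g.fiberι s).stalkMap_surjective y)

end Groth.Agent.H68.FibEt
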