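import Groth.Agent.H68.FibEt.BranchMain
import Groth.Agent.H68.FibEt.ResFld
import Groth.Agent.S9752

/-!
# Branches of a fibre via elementary étale neighbourhoods of the total space
-/

set_option autoImplicit false
set_option linter.style.haveILetI false
universe u

open CategoryTheory CategoryTheory.Limits AlgebraicGeometry Topology

namespace Groth.Agent.H68.FibEt

variable {X S : Scheme.{u}} (f : X ⟶ S) (x : X)

/-- The fibre map of an elementary étale neighbourhood is an elementary étale neighbourhood of
the fibre. -/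
theorem isEtaleNbhd_fiberMap {U : Scheme.{u}} (p : U ⟶ X) (u' : ↑((p ≫ f).fiber (f x)))
    (h : Hens2.IsEtaleNbhd p ((p ≫ f).fiberι (f x) u') x) :
    Hens2.IsEtaleNbhd (MoreMor.fiberMap p f (f x)) u' (f.asFiber x) := by
  haveI := h.etale
  refine ⟨inferInstance, fiberMap_eq_asFiber p f x u' h.base_eq, ?_, ?_⟩
  · exact residueFieldMap_injective _ _
  · exact residueFieldMap_surjective_fst ((p ≫ f).fiberι (f x)) p (MoreMor.fiberMap p f (f x))
      (f.fiberι (f x)) (isPullback_fiberMap p f (f x)).w.symm u'
      (residueFieldMap_fiberι_surjective _ _ _) h.residue_bijective.2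

/-- An étale neighbourhood of the total space whose fibre contains (as an open subscheme) an
elementary étale neighbourhood of the fibre is elementary. -/
theorem isEtaleNbhd_of_fibre {U V : Scheme.{u}} (p : U ⟶ X) [Etale p]
    (h : V ⟶ f.fiber (f x)) (m : (p ≫ f).fiber (f x) ⟶ V) [IsOpenImmersion m]
    (hmh : m ≫ h = MoreMor.fiberMap p f (f x))
    (u' : ↑((p ≫ f).fiber (f x))) (hpu : p ((p ≫ f).fiberι (f x) u') = x)
    (hv : Hens2.IsEtaleNbhd h (m u') (f.asFiber x)) :
    Hens2.IsEtaleNbhd p ((p ≫ f).fiberι (f x) u') x := by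
  refine ⟨inferInstance, hpu, ?_, ?_⟩
  · exact residueFieldMap_injective _ _
  · have h1 : Function.Surjective ((MoreMor.fiberMap p f (f x)).residueFieldMap u').hom :=
      residueFieldMap_surjective_congr hmh u'
        (residueFieldMap_comp_surjective m h u'
          (residueFieldMap_surjective_of_isOpenImmersion m u') hv.residue_bijective.2)
    exact residueFieldMap_surjective_snd (MoreMor.fiberMap p f (f x)) (f.fiberι (f x))
      ((p ≫ f).fiberι (f x)) p (isPullback_fiberMap p f (f x)).w u' h1
      (residueFieldMap_fiberι_surjective _ _ _)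

theorem numBranchesAt_fibre :
    Brnch.numBranchesAt (f.fiber (f x)) (f.asFiber x) =
      ⨆ (U : Scheme.{u}) (g : U ⟶ X) (u : U) (_ : Hens2.IsEtaleNbhd g u x),
      {Z : Set ↑((g ≫ f).fiber (f x)) | Z ∈ irreducibleComponents ↑((g ≫ f).fiber (f x)) ∧
        ∃ u' ∈ Z, (g ≫ f).fiberι (f x) u' = u}.encard := by
  rw [Groth.Agent.S9752.result (f.fiber (f x)) (f.asFiber x)]
  apply le_antisymm
  · refine iSup_le fun V => iSup_le fun h => iSup_le fun v => iSup_le fun hh => ?_
    haveI := hh.etale
    obtain ⟨U, p, u, m, u', hp, hpu, hm, hmg, hu', hmu'⟩ :=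
      exists_etale_nbhd_lift f x h v hh.base_eq
    have h1 := encard_components_le_of_isOpenEmbedding m.base m.isOpenEmbedding u'
    have hmu'' : m.base u' = v := hmu'
    rw [hmu''] at h1
    refine h1.trans ?_
    rw [← fibre_components_set_eq f x p u', hu']
    subst hu'
    subst hmu'
    exact le_iSup_of_le U (le_iSup_of_le p (le_iSup_of_le _
      (le_iSup_of_le (isEtaleNbhd_of_fibre f x p h m hmg u' hpu hh) le_rfl)))
  · refine iSup_le fun U => iSup_le fun p => iSup_le fun u => iSup_le fun hh => ?_
    by_cases hex : ∃ u' : ↑((p ≫ f).fiber (f x)), (p ≫ f).fiberι (f x) u' = u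
    · obtain ⟨u', rfl⟩ := hex
      rw [fibre_components_set_eq f x p u']
      exact le_iSup_of_le ((p ≫ f).fiber (f x)) (le_iSup_of_le (MoreMor.fiberMap p f (f x))
        (le_iSup_of_le u' (le_iSup_of_le (isEtaleNbhd_fiberMap f x p u' hh) le_rfl)))
    · rw [fibre_components_set_eq_empty f x p u hex]
      simp

end Groth.Agent.H68.FibEt
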