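import Groth.Agent.H68.FibEt.Branch
import Groth.Agent.S9753

/-!
# Geometric branches of a fibre via étale neighbourhoods of the total space
-/

set_option autoImplicit false
set_option linter.style.haveILetI false
universe u

open CategoryTheory CategoryTheory.Limits AlgebraicGeometry Topology

namespace Groth.Agent.H68.FibEt

variable {X S : Scheme.{u}} (f : X ⟶ S) (x : X)

/-- The set of irreducible components of the fibre `U_s` through a point `u'`, in the form used in
the statements. -/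
theorem fibre_components_set_eq {U : Scheme.{u}} (p : U ⟶ X) (u' : ↑((p ≫ f).fiber (f x))) :
    {Z : Set ↑((p ≫ f).fiber (f x)) | Z ∈ irreducibleComponents ↑((p ≫ f).fiber (f x)) ∧
        ∃ u'' ∈ Z, (p ≫ f).fiberι (f x) u'' = (p ≫ f).fiberι (f x) u'} =
    {Z : Set ↑((p ≫ f).fiber (f x)) | Z ∈ irreducibleComponents ↑((p ≫ f).fiber (f x)) ∧
        u' ∈ Z} := by
  ext Z
  constructor
  · rintro ⟨hZ, u'', hu'', h⟩
    have := ((p ≫ f).fiberι (f x)).isEmbedding.injective h
    exact ⟨hZ, this ▸ hu''⟩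
  · rintro ⟨hZ, h⟩
    exact ⟨hZ, u', h, rfl⟩

theorem fibre_components_set_eq_empty {U : Scheme.{u}} (p : U ⟶ X) (u : U)
    (h : ¬ ∃ u' : ↑((p ≫ f).fiber (f x)), (p ≫ f).fiberι (f x) u' = u) :
    {Z : Set ↑((p ≫ f).fiber (f x)) | Z ∈ irreducibleComponents ↑((p ≫ f).fiber (f x)) ∧
        ∃ u'' ∈ Z, (p ≫ f).fiberι (f x) u'' = u} = ∅ := by
  refine Set.eq_empty_of_forall_notMem ?_
  rintro Z ⟨-, u'', -, h'⟩
  exact h ⟨u'', h'⟩

theorem numGeomBranchesAt_fibre :
    Brnch.numGeomBranchesAt (f.fiber (f x)) (f.asFiber x) =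
      ⨆ (U : Scheme.{u}) (g : U ⟶ X) (u : U) (_ : Etale g ∧ g u = x),
      {Z : Set ↑((g ≫ f).fiber (f x)) | Z ∈ irreducibleComponents ↑((g ≫ f).fiber (f x)) ∧
        ∃ u' ∈ Z, (g ≫ f).fiberι (f x) u' = u}.encard := by
  rw [Groth.Agent.S9753.result (f.fiber (f x)) (f.asFiber x)]
  apply le_antisymm
  · refine iSup_le fun V => iSup_le fun h => iSup_le fun v => iSup_le fun hh => ?_
    obtain ⟨het, hv⟩ := hh
    haveI := het
    obtain ⟨U, p, u, m, u', hp, hpu, hm, hmg, hu', hmu'⟩ := exists_etale_nbhd_lift f x h v hv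
    have h1 := encard_components_le_of_isOpenEmbedding m.base m.isOpenEmbedding u'
    have hmu'' : m.base u' = v := hmu'
    rw [hmu''] at h1
    refine h1.trans ?_
    rw [← fibre_components_set_eq f x p u', hu']
    exact le_iSup_of_le U (le_iSup_of_le p (le_iSup_of_le u (le_iSup_of_le ⟨hp, hpu⟩ le_rfl)))
  · refine iSup_le fun U => iSup_le fun p => iSup_le fun u => iSup_le fun hh => ?_
    obtain ⟨hp, hpu⟩ := hh
    haveI := hp
    by_cases hex : ∃ u' : ↑((p ≫ f).fiber (f x)), (p ≫ f).fiberι (f x) u' = u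
    · obtain ⟨u', rfl⟩ := hex
      rw [fibre_components_set_eq f x p u']
      exact le_iSup_of_le ((p ≫ f).fiber (f x)) (le_iSup_of_le (MoreMor.fiberMap p f (f x))
        (le_iSup_of_le u' (le_iSup_of_le ⟨inferInstance, fiberMap_eq_asFiber p f x u' hpu⟩ le_rfl)))
    · rw [fibre_components_set_eq_empty f x p u hex]
      simp

end Groth.Agent.H68.FibEt
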