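import Mathlib

/-!
# Standard étale charts which are open immersions
-/

set_option autoImplicit false
set_option linter.style.haveILetI false
universe u

open CategoryTheory CategoryTheory.Limits AlgebraicGeometry

namespace Groth.Agent.H68.FibEt

/-- Standard étale affine chart (an open immersion) of an étale morphism around a point, over a
given affine open of the target. (Variant of helper7's `exists_standardEtale_chart` recording that
the chart is an open immersion.) -/
theorem exists_standardEtale_chart_oi {U S : Scheme.{u}} (e : U ⟶ S) [Etale e] (u : U)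
    {V : S.Opens} (hV : IsAffineOpen V) (huV : e u ∈ V) :
    ∃ (B : Type u) (_ : CommRing B) (_ : Algebra Γ(S, V) B) (_ : Algebra.IsStandardEtale Γ(S, V) B)
      (k : Spec (.of B) ⟶ U) (b : Spec (.of B)), IsOpenImmersion k ∧
      k ≫ e = Spec.map (CommRingCat.ofHom (algebraMap Γ(S, V) B)) ≫ hV.fromSpec ∧ k b = u := by
  obtain ⟨U₁, hU₁, huU₁, hle⟩ : ∃ U₁ : U.Opens, IsAffineOpen U₁ ∧ u ∈ U₁ ∧ U₁ ≤ e ⁻¹ᵁ V := by
    obtain ⟨_, ⟨W, hW, rfl⟩, hxW, hWle⟩ := U.isBasis_affineOpens.exists_subset_of_mem_open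
      (show u ∈ ((e ⁻¹ᵁ V : U.Opens) : Set U) from huV) (e ⁻¹ᵁ V).isOpen
    exact ⟨W, hW, hxW, hWle⟩
  let φ : Γ(S, V) ⟶ Γ(U, U₁) := e.appLE V U₁ hle
  have hφ : φ.hom.Etale := HasRingHomProperty.appLE (P := @Etale) e ‹_› ⟨V, hV⟩ ⟨U₁, hU₁⟩ hle
  algebraize [φ.hom]
  let qu : PrimeSpectrum Γ(U, U₁) := hU₁.primeIdealOf ⟨u, huU₁⟩
  obtain ⟨f, hfq, hstd⟩ := Algebra.IsEtaleAt.exists_isStandardEtale (R := Γ(S, V)) qu.asIdeal
  let ι := algebraMap Γ(U, U₁) (Localization.Away f)
  have hdisj : Disjoint (Submonoid.powers f : Set Γ(U, U₁)) (qu.asIdeal : Set Γ(U, U₁)) := by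
    rw [Set.disjoint_left]
    rintro x ⟨n, rfl⟩ hx
    exact hfq (qu.2.mem_of_pow_mem n hx)
  have hprime : (qu.asIdeal.map ι).IsPrime :=
    IsLocalization.isPrime_of_isPrime_disjoint (Submonoid.powers f) _ _ qu.2 hdisj
  let b : PrimeSpectrum (Localization.Away f) := ⟨qu.asIdeal.map ι, hprime⟩
  have hb : PrimeSpectrum.comap ι b = qu := by
    ext1
    exact IsLocalization.under_map_of_isPrime_disjoint (Submonoid.powers f) _ qu.2 hdisj
  have hoi : IsOpenImmersion (Spec.map (CommRingCat.ofHom ι)) :=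
    inferInstanceAs (IsOpenImmersion (Spec.map (CommRingCat.ofHom
      (algebraMap Γ(U, U₁) (Localization.Away f)))))
  refine ⟨Localization.Away f, inferInstance, inferInstance, hstd,
    Spec.map (CommRingCat.ofHom ι) ≫ hU₁.fromSpec, b, inferInstance, ?_, ?_⟩
  · rw [Category.assoc, ← IsAffineOpen.SpecMap_appLE_fromSpec e hV hU₁ hle, ← Category.assoc,
      ← Spec.map_comp]
    rfl
  · rw [Scheme.Hom.comp_apply]
    have : Spec.map (CommRingCat.ofHom ι) b = qu := hb
    rw [this]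
    exact hU₁.fromSpec_primeIdealOf ⟨u, huU₁⟩

end Groth.Agent.H68.FibEt
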