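import Groth.Agent.H68.FibEt.Alg
import Groth.Agent.H20.GenFibreScheme

/-!
# The coordinate ring of an affine chart of a fibre has fractions over the chart
-/

set_option autoImplicit false
set_option linter.style.haveILetI false
universe u

open TensorProduct CategoryTheory CategoryTheory.Limits AlgebraicGeometry

namespace Groth.Agent.H68.FibEt

theorem hasFracs_of_ringEquiv {A B κ T : Type u} [CommRing A] [CommRing B] [Field κ] [CommRing T]
    [Algebra A B] [Algebra A κ] [Algebra B T]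
    (hκ : ∀ k : κ, ∃ α a₀ : A, algebraMap A κ a₀ ≠ 0 ∧ k * algebraMap A κ a₀ = algebraMap A κ α)
    (e : κ ⊗[A] B ≃+* T) (he : ∀ b : B, e ((1 : κ) ⊗ₜ[A] b) = algebraMap B T b) :
    HasFracs B T := by
  have key : ∀ z : κ ⊗[A] B, ∃ a b : B, IsUnit ((1 : κ) ⊗ₜ[A] a) ∧
      z * ((1 : κ) ⊗ₜ[A] a) = (1 : κ) ⊗ₜ[A] b := by
    intro z
    induction z using TensorProduct.induction_on with
    | zero => exact ⟨1, 0, by rw [← Algebra.TensorProduct.one_def]; exact isUnit_one, by simp⟩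
    | tmul k b₀ =>
      obtain ⟨α, a₀, ha₀, hk⟩ := hκ k
      refine ⟨algebraMap A B a₀, algebraMap A B α * b₀, ?_, ?_⟩
      · have h1 : ((1 : κ) ⊗ₜ[A] algebraMap A B a₀) =
            Algebra.TensorProduct.includeLeft (R := A) (S := A) (A := κ) (B := B)
              (algebraMap A κ a₀) := by
          rw [Algebra.TensorProduct.includeLeft_apply, Algebra.algebraMap_eq_smul_one,
            Algebra.algebraMap_eq_smul_one, TensorProduct.smul_tmul]
        rw [h1]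
        exact (IsUnit.mk0 _ ha₀).map _
      · rw [Algebra.TensorProduct.tmul_mul_tmul, mul_one, mul_comm b₀,
          ← Algebra.smul_def, ← Algebra.smul_def, ← TensorProduct.smul_tmul,
          ← TensorProduct.smul_tmul, Algebra.smul_def, Algebra.smul_def, mul_one, mul_comm, hk]
    | add z₁ z₂ h₁ h₂ =>
      obtain ⟨a₁, b₁, u₁, e₁⟩ := h₁
      obtain ⟨a₂, b₂, u₂, e₂⟩ := h₂
      refine ⟨a₁ * a₂, b₁ * a₂ + b₂ * a₁, ?_, ?_⟩
      · have : ((1 : κ) ⊗ₜ[A] (a₁ * a₂)) = ((1 : κ) ⊗ₜ[A] a₁) * ((1 : κ) ⊗ₜ[A] a₂) := by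
          rw [Algebra.TensorProduct.tmul_mul_tmul, mul_one]
        rw [this]; exact u₁.mul u₂
      · have h1 : ((1 : κ) ⊗ₜ[A] (a₁ * a₂)) = ((1 : κ) ⊗ₜ[A] a₁) * ((1 : κ) ⊗ₜ[A] a₂) := by
          rw [Algebra.TensorProduct.tmul_mul_tmul, mul_one]
        have h2 : ((1 : κ) ⊗ₜ[A] (b₁ * a₂ + b₂ * a₁)) =
            ((1 : κ) ⊗ₜ[A] b₁) * ((1 : κ) ⊗ₜ[A] a₂) + ((1 : κ) ⊗ₜ[A] b₂) * ((1 : κ) ⊗ₜ[A] a₁) := by
          rw [Algebra.TensorProduct.tmul_mul_tmul, Algebra.TensorProduct.tmul_mul_tmul, mul_one,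
            TensorProduct.tmul_add]
        rw [h1, h2, ← e₁, ← e₂]
        ring
  intro y
  obtain ⟨a, b, ua, hab⟩ := key (e.symm y)
  refine ⟨a, b, ?_, ?_⟩
  · rw [← he]; exact ua.map e
  · rw [← he, ← he, ← hab, map_mul, RingEquiv.apply_symm_apply]

end Groth.Agent.H68.FibEt
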