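import Groth.Agent.H68.FibEt.Fracs

/-!
# Scheme-level: fractions for the chart of a fibre
-/

set_option autoImplicit false
set_option linter.style.haveILetI false
universe u

open TensorProduct CategoryTheory CategoryTheory.Limits AlgebraicGeometry

namespace Groth.Agent.H68.FibEt

theorem exists_eval_frac {Y : Scheme.{u}} {V : Y.Opens} (hV : IsAffineOpen V) (y : Y) (hy : y ∈ V)
    (k : Y.residueField y) :
    ∃ α a₀ : Γ(Y, V), (Y.evaluation V y hy).hom a₀ ≠ 0 ∧
      k * (Y.evaluation V y hy).hom a₀ = (Y.evaluation V y hy).hom α := by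
  obtain ⟨z, rfl⟩ := Y.residue_surjective y k
  letI : Algebra Γ(Y, V) (Y.presheaf.stalk y) :=
    TopCat.Presheaf.algebra_section_stalk Y.presheaf (⟨y, hy⟩ : V)
  haveI : IsLocalization.AtPrime (Y.presheaf.stalk y) (hV.primeIdealOf ⟨y, hy⟩).asIdeal :=
    hV.isLocalization_stalk ⟨y, hy⟩
  obtain ⟨⟨α, a₀⟩, h⟩ := IsLocalization.surj (hV.primeIdealOf ⟨y, hy⟩).asIdeal.primeCompl z
  have hu : IsUnit (algebraMap Γ(Y, V) (Y.presheaf.stalk y) a₀) := IsLocalization.map_units _ a₀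
  have hg : ∀ t : Γ(Y, V), (Y.evaluation V y hy).hom t =
      (Y.residue y).hom (algebraMap Γ(Y, V) (Y.presheaf.stalk y) t) := fun t => rfl
  refine ⟨α, a₀, ?_, ?_⟩
  · rw [hg]
    exact (hu.map (Y.residue y).hom).ne_zero
  · rw [hg, hg, ← map_mul]
    exact congrArg _ h

variable {X Y : Scheme.{u}} (f : X ⟶ Y) (y : Y)

/-- The coordinate ring of the trace on a fibre of an affine open `U` (over an affine open `V`)
has fractions over `Γ(X, U)`. -/
theorem hasFracs_fibre {U : X.Opens} {V : Y.Opens} (hU : IsAffineOpen U)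
    (hV : IsAffineOpen V) (hUV : U ≤ f ⁻¹ᵁ V) (hy : y ∈ V) :
    letI := ((f.fiberι y).appLE U ((f.fiberι y) ⁻¹ᵁ U) le_rfl).hom.toAlgebra
    HasFracs Γ(X, U) Γ(f.fiber y, (f.fiberι y) ⁻¹ᵁ U) := by
  letI := ((f.fiberι y).appLE U ((f.fiberι y) ⁻¹ᵁ U) le_rfl).hom.toAlgebra
  letI := (f.appLE V U hUV).hom.toAlgebra
  letI := (Y.evaluation V y hy).hom.toAlgebra
  obtain ⟨e, he⟩ := Groth.Agent.H20.GenFibre.exists_fibre_ringEquiv f y hU hV hUV hy
  exact hasFracs_of_ringEquiv (A := Γ(Y, V)) (fun k => exists_eval_frac hV y hy k) e he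

end Groth.Agent.H68.FibEt
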