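import Groth.Agent.H68.FibEt.FracsScheme
import Groth.Agent.H68.FibEt.Chart
import Groth.Agent.H68.FibEt.Assembly
import Groth.Prelude.Def_MoreMor

/-!
# Étale neighbourhoods of a point in its fibre lift to the total space
-/

set_option autoImplicit false
set_option linter.style.haveILetI false
universe u

open TensorProduct CategoryTheory CategoryTheory.Limits AlgebraicGeometry

namespace Groth.Agent.H68.FibEt

theorem exists_etale_nbhd_lift {X S V : Scheme.{u}} (f : X ⟶ S) (x : X)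
    (g : V ⟶ f.fiber (f x)) [Etale g] (v : V) (hv : g v = f.asFiber x) :
    ∃ (U : Scheme.{u}) (p : U ⟶ X) (u : U) (m : (p ≫ f).fiber (f x) ⟶ V)
      (u' : ↑((p ≫ f).fiber (f x))),
      Etale p ∧ p u = x ∧ IsOpenImmersion m ∧ m ≫ g = MoreMor.fiberMap p f (f x) ∧
      (p ≫ f).fiberι (f x) u' = u ∧ m u' = v := by
  -- affine opens
  obtain ⟨S₀, hS₀, hsS₀⟩ : ∃ S₀ : S.Opens, IsAffineOpen S₀ ∧ f x ∈ S₀ := by
    obtain ⟨_, ⟨W, hW, rfl⟩, hxW, -⟩ := S.isBasis_affineOpens.exists_subset_of_mem_open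
      (Set.mem_univ (f x)) isOpen_univ
    exact ⟨W, hW, hxW⟩
  obtain ⟨U₀, hU₀, hxU₀, hle⟩ : ∃ U₀ : X.Opens, IsAffineOpen U₀ ∧ x ∈ U₀ ∧ U₀ ≤ f ⁻¹ᵁ S₀ := by
    obtain ⟨_, ⟨W, hW, rfl⟩, hxW, hWle⟩ := X.isBasis_affineOpens.exists_subset_of_mem_open
      (show x ∈ ((f ⁻¹ᵁ S₀ : X.Opens) : Set X) from hsS₀) (f ⁻¹ᵁ S₀).isOpen
    exact ⟨W, hW, hxW, hWle⟩
  have hFU : IsAffineOpen ((f.fiberι (f x)) ⁻¹ᵁ U₀) :=
    Groth.Agent.H20.GenFibre.isAffineOpen_fiberι_preimage f (f x) hU₀ hS₀ hle hsS₀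
  letI : Algebra Γ(X, U₀) Γ(f.fiber (f x), (f.fiberι (f x)) ⁻¹ᵁ U₀) :=
    ((f.fiberι (f x)).appLE U₀ ((f.fiberι (f x)) ⁻¹ᵁ U₀) le_rfl).hom.toAlgebra
  have hfr : HasFracs Γ(X, U₀) Γ(f.fiber (f x), (f.fiberι (f x)) ⁻¹ᵁ U₀) :=
    hasFracs_fibre f (f x) hU₀ hS₀ hle hsS₀
  have hgv : g v ∈ (f.fiberι (f x)) ⁻¹ᵁ U₀ := by
    rw [hv]
    show f.fiberι (f x) (f.asFiber x) ∈ U₀
    rw [f.fiberι_asFiber]; exact hxU₀
  obtain ⟨D, _, _, hstd, k, d, hk_oi, hk, hkd⟩ := exists_standardEtale_chart_oi g v hFU hgv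
  obtain ⟨Pr⟩ := hstd.nonempty_standardEtalePresentation
  obtain ⟨C, _, _, hCet, ⟨E⟩⟩ := exists_etale_lift hfr Pr.P
  obtain ⟨m, hm_oi, hmg, hpts⟩ := exists_openImmersion_of_tensor_equiv f (f x) hU₀ hFU C D
    (E.trans Pr.equivRing.symm) g k hk
  obtain ⟨u', hu'⟩ := hpts d
  have hp_et : Etale (Spec.map (CommRingCat.ofHom (algebraMap Γ(X, U₀) C)) ≫ hU₀.fromSpec) := by
    have : Etale (Spec.map (CommRingCat.ofHom (algebraMap Γ(X, U₀) C))) := by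
      rw [HasRingHomProperty.Spec_iff (P := @Etale)]
      exact RingHom.etale_algebraMap.mpr hCet
    infer_instance
  refine ⟨Spec (.of C), Spec.map (CommRingCat.ofHom (algebraMap Γ(X, U₀) C)) ≫ hU₀.fromSpec,
    ((Spec.map (CommRingCat.ofHom (algebraMap Γ(X, U₀) C)) ≫ hU₀.fromSpec) ≫ f).fiberι (f x) u',
    m, u', hp_et, ?_, hm_oi, hmg, rfl, by rw [hu', hkd]⟩
  -- the point
  have h1 : MoreMor.fiberMap (Spec.map (CommRingCat.ofHom (algebraMap Γ(X, U₀) C)) ≫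
      hU₀.fromSpec) f (f x) ≫ f.fiberι (f x) =
      ((Spec.map (CommRingCat.ofHom (algebraMap Γ(X, U₀) C)) ≫ hU₀.fromSpec) ≫ f).fiberι (f x) ≫
        (Spec.map (CommRingCat.ofHom (algebraMap Γ(X, U₀) C)) ≫ hU₀.fromSpec) :=
    pullback.lift_fst _ _ _
  rw [← Scheme.Hom.comp_apply, ← h1, ← hmg, Scheme.Hom.comp_apply, Scheme.Hom.comp_apply, hu', hkd,
    hv, f.fiberι_asFiber]

end Groth.Agent.H68.FibEt
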